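import Mathlib

/-!
Factorisation of a chain map into a termwise split injection followed by a homotopy equivalence
with a section, and dually.
-/

universe v u
open CategoryTheory CategoryTheory.Limits CochainComplex HomComplex

namespace Groth.Agent.SplitFac

variable {V : Type u} [Category.{v} V] [Preadditive V] [HasBinaryBiproducts V]
  {K L : CochainComplex V ℤ} (α : K ⟶ L)

/-- The middle complex. -/
noncomputable abbrev cyl : CochainComplex V ℤ := L ⊞ mappingCone (𝟙 K)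

/-- The split injection. -/
noncomputable abbrev inj : K ⟶ cyl (K := K) (L := L) := biprod.lift α (mappingCone.inr (𝟙 K))

/-- The section composed with the projection is homotopic to the identity. -/
noncomputable def homotopy :
    Homotopy ((biprod.fst : cyl (K := K) (L := L) ⟶ L) ≫ biprod.inl) (𝟙 _) :=
  (((Homotopy.refl _).add
    ((((mappingCone.homotopyToZeroOfId K).symm).compRight biprod.inr).compLeft biprod.snd)).trans
      (Homotopy.ofEq (by rw [Category.id_comp]; exact biprod.total))) |> fun h =>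
      (Homotopy.ofEq (by rw [zero_comp, comp_zero, add_zero] :
        (biprod.fst : cyl (K := K) (L := L) ⟶ L) ≫ biprod.inl =
          biprod.fst ≫ biprod.inl + biprod.snd ≫ 0 ≫ biprod.inr)).trans h

theorem inj_split (n : ℤ) :
    ∃ (C : V) (e : (cyl (K := K) (L := L)).X n ≅ K.X n ⊞ C),
      (inj α).f n ≫ e.hom = biprod.inl := by
  let M := mappingCone (𝟙 K)
  let i₁ : L.X n ⟶ (L ⊞ M).X n := (biprod.inl : L ⟶ L ⊞ M).f n
  let i₂ : M.X n ⟶ (L ⊞ M).X n := (biprod.inr : M ⟶ L ⊞ M).f n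
  let p₁ : (L ⊞ M).X n ⟶ L.X n := (biprod.fst : L ⊞ M ⟶ L).f n
  let p₂ : (L ⊞ M).X n ⟶ M.X n := (biprod.snd : L ⊞ M ⟶ M).f n
  let q₁ : M.X n ⟶ K.X (n + 1) := (mappingCone.fst (𝟙 K)).1.v n (n + 1) rfl
  let q₂ : M.X n ⟶ K.X n := (mappingCone.snd (𝟙 K)).v n n (add_zero n)
  let j₁ : K.X (n + 1) ⟶ M.X n := (mappingCone.inl (𝟙 K)).v (n + 1) n (by omega)
  let j₂ : K.X n ⟶ M.X n := (mappingCone.inr (𝟙 K)).f n
  have hI : (inj α).f n = α.f n ≫ i₁ + j₂ ≫ i₂ := by
    apply HomologicalComplex.biprodX_ext_to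
    · simp [inj, i₁, i₂, j₂, M]
    · simp [inj, i₁, i₂, j₂, M]
  have h11 : i₁ ≫ p₁ = 𝟙 _ := by simp [i₁, p₁]
  have h12 : i₁ ≫ p₂ = 0 := by simp [i₁, p₂]
  have h21 : i₂ ≫ p₁ = 0 := by simp [i₂, p₁]
  have h22 : i₂ ≫ p₂ = 𝟙 _ := by simp [i₂, p₂]
  have hp : p₁ ≫ i₁ + p₂ ≫ i₂ = 𝟙 _ := HomologicalComplex.biprod_total_f _ _ n
  have g11 : j₁ ≫ q₁ = 𝟙 _ := by simp [j₁, q₁]
  have g12 : j₁ ≫ q₂ = 0 := by simp [j₁, q₂]
  have g21 : j₂ ≫ q₁ = 0 := by simp [j₂, q₁]
  have g22 : j₂ ≫ q₂ = 𝟙 _ := by simp [j₂, q₂]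
  have hq : q₁ ≫ j₁ + q₂ ≫ j₂ = 𝟙 _ := mappingCone.id_X (𝟙 K) n (n + 1) rfl
  let r : (L ⊞ M).X n ⟶ K.X n := p₂ ≫ q₂
  let c : (L ⊞ M).X n ⟶ L.X n ⊞ K.X (n + 1) := biprod.lift (p₁ - r ≫ α.f n) (p₂ ≫ q₁)
  let d : L.X n ⊞ K.X (n + 1) ⟶ (L ⊞ M).X n := biprod.desc i₁ (j₁ ≫ i₂)
  refine ⟨L.X n ⊞ K.X (n + 1), ⟨biprod.lift r c, biprod.desc ((inj α).f n) d, ?_, ?_⟩, ?_⟩
  · rw [biprod.lift_desc, show c ≫ d = (p₁ - r ≫ α.f n) ≫ i₁ + (p₂ ≫ q₁) ≫ j₁ ≫ i₂ from
      biprod.lift_desc, hI]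
    simp only [r, Preadditive.comp_add, Preadditive.sub_comp, Category.assoc]
    have : p₂ ≫ q₂ ≫ j₂ ≫ i₂ + p₂ ≫ q₁ ≫ j₁ ≫ i₂ = p₂ ≫ i₂ := by
      rw [← Preadditive.comp_add, ← Category.assoc q₂, ← Category.assoc q₁,
        ← Preadditive.add_comp, add_comm, hq, Category.id_comp]
    rw [← hp, ← this]
    abel
  · apply biprod.hom_ext'
    · rw [biprod.inl_desc_assoc, Category.comp_id, hI]
      apply biprod.hom_ext
      · simp [r, reassoc_of% h12, reassoc_of% h22, g22]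
      · simp only [Category.assoc, biprod.lift_snd, biprod.inl_snd]
        apply biprod.hom_ext
        · simp [c, r, h11, h21, reassoc_of% h12, reassoc_of% h22, reassoc_of% g22]
        · simp [c, reassoc_of% h12, reassoc_of% h22, g21]
    · rw [biprod.inr_desc_assoc, Category.comp_id]
      apply biprod.hom_ext'
      · rw [biprod.inl_desc_assoc]
        apply biprod.hom_ext
        · simp [r, reassoc_of% h12]
        · simp only [Category.assoc, biprod.lift_snd, biprod.inr_snd]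
          apply biprod.hom_ext
          · simp [c, r, h11, reassoc_of% h12]
          · simp [c, reassoc_of% h12]
      · rw [biprod.inr_desc_assoc]
        apply biprod.hom_ext
        · simp [r, reassoc_of% h22, g12]
        · simp only [Category.assoc, biprod.lift_snd, biprod.inr_snd]
          apply biprod.hom_ext
          · simp [c, r, h21, reassoc_of% h22, reassoc_of% g12]
          · simp [c, reassoc_of% h22, g11]
  · show (inj α).f n ≫ biprod.lift r c = biprod.inl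
    rw [hI]
    apply biprod.hom_ext
    · simp [r, reassoc_of% h12, reassoc_of% h22, g22]
    · apply biprod.hom_ext
      · simp [c, r, h11, h21, reassoc_of% h12, reassoc_of% h22, reassoc_of% g22]
      · simp [c, reassoc_of% h12, reassoc_of% h22, g21]

theorem cyl_isStrictlyGE (a : ℤ) [K.IsStrictlyGE a] [L.IsStrictlyGE a] :
    (cyl (K := K) (L := L)).IsStrictlyGE (a - 1) := by
  rw [isStrictlyGE_iff]
  intro i hi
  exact IsZero.of_iso (biprod_isZero_iff _ _ |>.2 ⟨L.isZero_of_isStrictlyGE a i (by omega),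
    (mappingCone.isZero_X_iff (φ := 𝟙 K) i).2 ⟨K.isZero_of_isStrictlyGE a _ (by omega),
      K.isZero_of_isStrictlyGE a _ (by omega)⟩⟩) (HomologicalComplex.biprodXIso _ _ i)

theorem cyl_isStrictlyLE (a : ℤ) [K.IsStrictlyLE a] [L.IsStrictlyLE a] :
    (cyl (K := K) (L := L)).IsStrictlyLE a := by
  rw [isStrictlyLE_iff]
  intro i hi
  exact IsZero.of_iso (biprod_isZero_iff _ _ |>.2 ⟨L.isZero_of_isStrictlyLE a i (by omega),
    (mappingCone.isZero_X_iff (φ := 𝟙 K) i).2 ⟨K.isZero_of_isStrictlyLE a _ (by omega),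
      K.isZero_of_isStrictlyLE a _ (by omega)⟩⟩) (HomologicalComplex.biprodXIso _ _ i)

end Groth.Agent.SplitFac
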