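import Groth.Agent.SplitFac.Basic

/-!
Termwise split surjective factorisation.
-/

universe v u
open CategoryTheory CategoryTheory.Limits CochainComplex HomComplex

namespace Groth.Agent.SplitFac

variable {V : Type u} [Category.{v} V] [Preadditive V] [HasBinaryBiproducts V]
  {K L : CochainComplex V ℤ} (α : K ⟶ L)

/-- The middle complex for the surjective factorisation. -/
noncomputable abbrev path : CochainComplex V ℤ := K ⊞ mappingCone (𝟙 (L⟦(-1 : ℤ)⟧))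

/-- The shift identification. -/
noncomputable abbrev shiftBack (L : CochainComplex V ℤ) : (L⟦(-1 : ℤ)⟧)⟦(1 : ℤ)⟧ ≅ L :=
  (shiftFunctorCompIsoId (CochainComplex V ℤ) (-1 : ℤ) 1 (by omega)).app L

/-- The map from the contractible complex onto `L`. -/
noncomputable abbrev delta (L : CochainComplex V ℤ) : mappingCone (𝟙 (L⟦(-1 : ℤ)⟧)) ⟶ L :=
  (mappingCone.triangle (𝟙 (L⟦(-1 : ℤ)⟧))).mor₃ ≫ (shiftBack L).hom

/-- The surjection. -/
noncomputable abbrev surj : path (K := K) (L := L) ⟶ L := biprod.desc α (delta L)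

/-- The retraction is a homotopy inverse. -/
noncomputable def homotopyDual :
    Homotopy ((biprod.fst : path (K := K) (L := L) ⟶ K) ≫ biprod.inl) (𝟙 _) :=
  (Homotopy.ofEq (by rw [zero_comp, comp_zero, add_zero] :
      (biprod.fst : path (K := K) (L := L) ⟶ K) ≫ biprod.inl =
        biprod.fst ≫ biprod.inl + biprod.snd ≫ 0 ≫ biprod.inr)).trans
    (((Homotopy.refl _).add
      ((((mappingCone.homotopyToZeroOfId (L⟦(-1 : ℤ)⟧)).symm).compRight biprod.inr).compLeft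
        biprod.snd)).trans (Homotopy.ofEq (by rw [Category.id_comp]; exact biprod.total)))

theorem surj_split (n : ℤ) :
    ∃ (C : V) (e : (path (K := K) (L := L)).X n ≅ C ⊞ L.X n),
      e.inv ≫ (surj α).f n = biprod.snd := by
  let L' : CochainComplex V ℤ := L⟦(-1 : ℤ)⟧
  let M := mappingCone (𝟙 L')
  let i₁ : K.X n ⟶ (K ⊞ M).X n := (biprod.inl : K ⟶ K ⊞ M).f n
  let i₂ : M.X n ⟶ (K ⊞ M).X n := (biprod.inr : M ⟶ K ⊞ M).f n
  let p₁ : (K ⊞ M).X n ⟶ K.X n := (biprod.fst : K ⊞ M ⟶ K).f n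
  let p₂ : (K ⊞ M).X n ⟶ M.X n := (biprod.snd : K ⊞ M ⟶ M).f n
  let q₂ : M.X n ⟶ L'.X n := (mappingCone.snd (𝟙 L')).v n n (add_zero n)
  let j₂ : L'.X n ⟶ M.X n := (mappingCone.inr (𝟙 L')).f n
  let u : L'.X (n + 1) ≅ L.X n :=
    (L'.shiftFunctorObjXIso 1 n (n + 1) rfl).symm ≪≫
      (HomologicalComplex.eval V _ n).mapIso (shiftBack L)
  let δn : M.X n ⟶ L.X n := (delta L).f n
  let t : L.X n ⟶ M.X n := u.inv ≫ (-(mappingCone.inl (𝟙 L')).v (n + 1) n (by omega))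
  have hδ : δn = (-(mappingCone.fst (𝟙 L')).1.v n (n + 1) rfl) ≫ u.hom := by
    simp [δn, u, mappingCone.triangle, L', Cochain.rightShift_v _ 1 0 (zero_add 1) n n (add_zero n) (n + 1) rfl]
    erw [Category.id_comp, Category.comp_id]
    rfl
  have h11 : i₁ ≫ p₁ = 𝟙 _ := by simp [i₁, p₁]
  have h12 : i₁ ≫ p₂ = 0 := by simp [i₁, p₂]
  have h21 : i₂ ≫ p₁ = 0 := by simp [i₂, p₁]
  have h22 : i₂ ≫ p₂ = 𝟙 _ := by simp [i₂, p₂]
  have hp : p₁ ≫ i₁ + p₂ ≫ i₂ = 𝟙 _ := HomologicalComplex.biprod_total_f _ _ n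
  have ht : t ≫ δn = 𝟙 _ := by
    rw [hδ]
    simp [t]
  have hj : j₂ ≫ δn = 0 := by
    rw [hδ]
    simp [j₂]
  have htq : t ≫ q₂ = 0 := by simp [t, q₂]
  have hjq : j₂ ≫ q₂ = 𝟙 _ := by simp [j₂, q₂]
  have hM : δn ≫ t + q₂ ≫ j₂ = 𝟙 _ := by
    rw [hδ]
    simp only [t, q₂, j₂, Category.assoc, Preadditive.neg_comp, Preadditive.comp_neg,
      neg_neg, Iso.hom_inv_id_assoc]
    exact mappingCone.id_X (𝟙 L') n (n + 1) rfl
  have hS : (surj α).f n = p₁ ≫ α.f n + p₂ ≫ δn := by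
    apply HomologicalComplex.biprodX_ext_from
    · simp [surj, p₁, p₂, δn, M, L']
    · simp [surj, p₁, p₂, δn, M, L']
  have hiS₁ : i₁ ≫ (surj α).f n = α.f n := by
    rw [hS]; simp [reassoc_of% h11, reassoc_of% h12]
  have hiS₂ : i₂ ≫ (surj α).f n = δn := by
    rw [hS]; simp [reassoc_of% h21, reassoc_of% h22]
  let ka : K.X n ⊞ L'.X n ⟶ (K ⊞ M).X n :=
    biprod.desc (i₁ - α.f n ≫ t ≫ i₂) (j₂ ≫ i₂)
  let kb : (K ⊞ M).X n ⟶ K.X n ⊞ L'.X n := biprod.lift p₁ (p₂ ≫ q₂)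
  have hkaS : ka ≫ (surj α).f n = 0 := by
    apply biprod.hom_ext'
    · simp [ka, hiS₁, hiS₂, ht]
    · simp [ka, hiS₂, hj]
  have hkab : ka ≫ kb = 𝟙 _ := by
    apply biprod.hom_ext' <;> apply biprod.hom_ext
    · simp [ka, kb, h11, h21]
    · simp [ka, kb, reassoc_of% h12, reassoc_of% h22, htq]
    · simp [ka, kb, h21]
    · simp [ka, kb, reassoc_of% h22, hjq]
  refine ⟨K.X n ⊞ L'.X n, ⟨biprod.lift kb ((surj α).f n), biprod.desc ka (t ≫ i₂), ?_, ?_⟩, ?_⟩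
  · rw [biprod.lift_desc, show kb ≫ ka = p₁ ≫ (i₁ - α.f n ≫ t ≫ i₂) + (p₂ ≫ q₂) ≫ j₂ ≫ i₂ from
      biprod.lift_desc, hS]
    simp only [Preadditive.comp_sub, Preadditive.add_comp, Category.assoc]
    have : p₂ ≫ δn ≫ t ≫ i₂ + p₂ ≫ q₂ ≫ j₂ ≫ i₂ = p₂ ≫ i₂ := by
      rw [← Preadditive.comp_add, ← Category.assoc δn, ← Category.assoc q₂,
        ← Preadditive.add_comp, hM, Category.id_comp]
    rw [← hp, ← this]
    abel
  · apply biprod.hom_ext'
    · rw [biprod.inl_desc_assoc, Category.comp_id]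
      apply biprod.hom_ext
      · simp [hkab]
      · simp [hkaS]
    · rw [biprod.inr_desc_assoc, Category.comp_id]
      apply biprod.hom_ext
      · simp only [Category.assoc, biprod.lift_fst, biprod.inr_fst]
        apply biprod.hom_ext
        · simp [kb, h21]
        · simp [kb, reassoc_of% h22, htq]
      · simp [hiS₂, ht]
  · show biprod.desc ka (t ≫ i₂) ≫ (surj α).f n = biprod.snd
    apply biprod.hom_ext'
    · simp [hkaS]
    · simp [hiS₂, ht]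

theorem path_isStrictlyGE (a : ℤ) [K.IsStrictlyGE a] [L.IsStrictlyGE a] :
    (path (K := K) (L := L)).IsStrictlyGE a := by
  rw [isStrictlyGE_iff]
  intro i hi
  have : (L⟦(-1 : ℤ)⟧).IsStrictlyGE (a + 1) := L.isStrictlyGE_shift a (-1) (a + 1) (by omega)
  exact IsZero.of_iso (biprod_isZero_iff _ _ |>.2 ⟨K.isZero_of_isStrictlyGE a i (by omega),
    (mappingCone.isZero_X_iff (φ := 𝟙 (L⟦(-1 : ℤ)⟧)) i).2
      ⟨(L⟦(-1 : ℤ)⟧).isZero_of_isStrictlyGE (a + 1) _ (by omega),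
        (L⟦(-1 : ℤ)⟧).isZero_of_isStrictlyGE (a + 1) _ (by omega)⟩⟩)
    (HomologicalComplex.biprodXIso _ _ i)

theorem path_isStrictlyLE (a : ℤ) [K.IsStrictlyLE a] [L.IsStrictlyLE a] :
    (path (K := K) (L := L)).IsStrictlyLE (a + 1) := by
  rw [isStrictlyLE_iff]
  intro i hi
  have : (L⟦(-1 : ℤ)⟧).IsStrictlyLE (a + 1) := L.isStrictlyLE_shift a (-1) (a + 1) (by omega)
  exact IsZero.of_iso (biprod_isZero_iff _ _ |>.2 ⟨K.isZero_of_isStrictlyLE a i (by omega),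
    (mappingCone.isZero_X_iff (φ := 𝟙 (L⟦(-1 : ℤ)⟧)) i).2
      ⟨(L⟦(-1 : ℤ)⟧).isZero_of_isStrictlyLE (a + 1) _ (by omega),
        (L⟦(-1 : ℤ)⟧).isZero_of_isStrictlyLE (a + 1) _ (by omega)⟩⟩)
    (HomologicalComplex.biprodXIso _ _ i)

end Groth.Agent.SplitFac
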